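import Cfsg.Agent.SylowNumber.Product
import Cfsg.Agent.FourAutOrbits.Main
import Cfsg.Agent.S0007

/-!
Groups all of whose Sylow numbers are prime powers are solvable.

If two Sylow normalisers `N(R)`, `N(S)` have coprime indices and `N(S)` contains a Sylow
`r`-subgroup, then all Sylow `r`-subgroups lie in `N(S)`, so the group is not simple. In a simple
group this leaves at most two primes.
-/

set_option autoImplicit false
set_option linter.style.haveILetI false
set_option linter.unusedSectionVars false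

namespace CfsgLib.SylowPrimePower

open Subgroup

universe u

variable {G : Type u} [Group G] [Finite G]

theorem card_sylow_quotient_dvd (p : ℕ) [Fact p.Prime] (K : Subgroup G) [K.Normal] :
    Nat.card (Sylow p (G ⧸ K)) ∣ Nat.card (Sylow p G) := by
  obtain ⟨P⟩ : Nonempty (Sylow p G) := inferInstance
  rw [CfsgLib.SylowProduct.card_sylow_quotient K P, CfsgLib.SylowProduct.card_sylow_eq_index P]
  exact index_dvd_of_le le_sup_left

theorem card_sylow_normal_dvd (p : ℕ) [Fact p.Prime] (K : Subgroup G) [K.Normal] :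
    Nat.card (Sylow p K) ∣ Nat.card (Sylow p G) := by
  obtain ⟨P⟩ : Nonempty (Sylow p G) := inferInstance
  set D := (P : Subgroup G) ⊓ K
  set N := ((P : Subgroup G) ⊔ K) ⊓ normalizer (D : Set G) with hN
  haveI : (D.subgroupOf N).Normal := normal_subgroupOf_of_le_normalizer inf_le_right
  rw [CfsgLib.SylowProduct.product_formula K P N hN]
  exact ⟨Nat.card (Sylow p (G ⧸ K)) * Nat.card (Sylow p (N ⧸ D.subgroupOf N)), by ring⟩

/-- Two Sylow numbers are never coprime unless one is a trivial obstruction, in a simple group. -/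
theorem dvd_or_not_coprime [IsSimpleGroup G] {r s : ℕ} [Fact r.Prime] [Fact s.Prime]
    (hr : r ∣ Nat.card G) (hs1 : Nat.card (Sylow s G) ≠ 1)
    (hcop : (Nat.card (Sylow r G)).Coprime (Nat.card (Sylow s G))) :
    r ∣ Nat.card (Sylow s G) := by
  by_contra hnd
  obtain ⟨S⟩ : Nonempty (Sylow s G) := inferInstance
  set M := normalizer ((S : Subgroup G) : Set G) with hM
  have hMi : M.index = Nat.card (Sylow s G) := (CfsgLib.SylowProduct.card_sylow_eq_index S).symm
  obtain ⟨R₀⟩ : Nonempty (Sylow r M) := inferInstance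
  set R : Subgroup G := (R₀ : Subgroup M).map M.subtype with hR
  have hRp : IsPGroup r R := R₀.2.map _
  have hRi : ¬ r ∣ R.index := by
    rw [hR, index_map_subtype]
    exact fun h => ((Fact.out : r.Prime).dvd_mul.1 h).elim R₀.not_dvd_index (hMi ▸ hnd)
  set P : Sylow r G := hRp.toSylow hRi
  have hPR : (P : Subgroup G) = R := rfl
  have hPM : (P : Subgroup G) ≤ M := hPR ▸ map_subtype_le _
  have hfac := (Cfsg.Agent.S0007.result M (normalizer ((P : Subgroup G) : Set G))
    (by rw [← CfsgLib.SylowProduct.card_sylow_eq_index P, hMi]; exact hcop.symm)).2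
  -- all conjugates of `P` are in `M`
  have hcl : normalClosure ((P : Subgroup G) : Set G) ≤ M := by
    refine (closure_le _).2 fun y hy => ?_
    obtain ⟨x, hx, hxy⟩ := Group.mem_conjugatesOfSet_iff.1 hy
    obtain ⟨g, rfl⟩ := isConj_iff.1 hxy
    obtain ⟨m, hm, a, ha, rfl⟩ := hfac g
    have h1 : a * x * a⁻¹ ∈ M := hPM ((mem_normalizer_iff.1 ha x).1 hx)
    have h2 := M.mul_mem (M.mul_mem hm h1) (M.inv_mem hm)
    show m * a * x * (m * a)⁻¹ ∈ M
    simpa [mul_assoc] using h2
  have hMtop : M ≠ ⊤ := fun h => hs1 (by rw [← hMi, h, index_top])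
  rcases (normalClosure_normal (s := ((P : Subgroup G) : Set G))).eq_bot_or_eq_top with h | h
  · have h1 : (P : Subgroup G) = ⊥ := eq_bot_iff.2 (fun x hx => h ▸ subset_normalClosure hx)
    have h2 := P.not_dvd_index
    rw [h1, index_bot] at h2
    exact h2 hr
  · exact hMtop (top_le_iff.1 (h ▸ hcl))

/-- The simple case. -/
theorem isSolvable_of_simple [IsSimpleGroup G]
    (h : ∀ (r : ℕ) [Fact r.Prime], Nat.card (Sylow r G) = 1 ∨ IsPrimePow (Nat.card (Sylow r G))) :
    Group.IsSolvable G := by
  by_contra hns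
  have hne : ∀ r ∈ (Nat.card G).primeFactors, ∀ [Fact r.Prime], Nat.card (Sylow r G) ≠ 1 := by
    intro r hr _ h1
    obtain ⟨hrp, hrd, -⟩ := Nat.mem_primeFactors.1 hr
    obtain ⟨P⟩ : Nonempty (Sylow r G) := inferInstance
    rw [CfsgLib.SylowProduct.card_sylow_eq_index P, index_eq_one] at h1
    have hN : (P : Subgroup G).Normal := normalizer_eq_top_iff.1 h1
    rcases hN.eq_bot_or_eq_top with h2 | h2
    · have h3 := P.not_dvd_index
      rw [h2, index_bot] at h3
      exact h3 hrd
    · have h3 : IsPGroup r G := (h2 ▸ P.2).of_equiv Subgroup.topEquiv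
      haveI := h3.isNilpotent
      exact hns inferInstance
  -- the prime of a Sylow number
  have hq : ∀ r ∈ (Nat.card G).primeFactors, ∃ q b : ℕ, q.Prime ∧ 0 < b ∧ r ≠ q ∧
      q ∈ (Nat.card G).primeFactors ∧ Nat.card (Sylow r G) = q ^ b := by
    intro r hr
    haveI := Fact.mk (Nat.prime_of_mem_primeFactors hr)
    obtain ⟨q, b, hqp, hb, he⟩ :=
      (isPrimePow_nat_iff _).1 ((h r).resolve_left (hne r hr))
    refine ⟨q, b, hqp, hb, ?_, ?_, he.symm⟩
    · rintro rfl
      exact not_dvd_card_sylow r G (he ▸ dvd_pow_self r hb.ne')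
    · refine Nat.mem_primeFactors.2 ⟨hqp, ?_, Nat.card_pos.ne'⟩
      obtain ⟨P⟩ : Nonempty (Sylow r G) := inferInstance
      have h1 : Nat.card (Sylow r G) ∣ Nat.card G := by
        rw [CfsgLib.SylowProduct.card_sylow_eq_index P]; exact index_dvd_card _
      exact (he ▸ dvd_pow_self q hb.ne' : q ∣ Nat.card (Sylow r G)).trans h1
  choose! q b hqp hb hqne hqm hqe using hq
  -- two different values force a two-cycle
  have hkey : ∀ r ∈ (Nat.card G).primeFactors, ∀ s ∈ (Nat.card G).primeFactors,
      q r ≠ q s → r = q s := by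
    intro r hr s hs hrs
    haveI := Fact.mk (Nat.prime_of_mem_primeFactors hr)
    haveI := Fact.mk (Nat.prime_of_mem_primeFactors hs)
    have hd := dvd_or_not_coprime (r := r) (s := s) (Nat.dvd_of_mem_primeFactors hr) (hne s hs)
      (by rw [hqe r hr, hqe s hs]; exact Nat.Coprime.pow _ _ ((Nat.coprime_primes (hqp r hr) (hqp s hs)).2 hrs))
    rw [hqe s hs] at hd
    exact (Nat.prime_dvd_prime_iff_eq (Fact.out) (hqp s hs)).1 ((Fact.out : r.Prime).dvd_of_dvd_pow hd)
  -- at most two primes
  have h3 := CfsgLib.FourAutOrbits.three_le_primeFactors hns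
  obtain ⟨r, hr⟩ : (Nat.card G).primeFactors.Nonempty := Finset.card_pos.1 (by omega)
  obtain ⟨s, hs, hsr, hsq⟩ : ∃ s ∈ (Nat.card G).primeFactors, s ≠ r ∧ s ≠ q r := by
    by_contra hcon
    push Not at hcon
    have hsub : (Nat.card G).primeFactors ⊆ {r, q r} := fun s hs => by
      by_cases hsr : s = r
      · simp [hsr]
      · simp [hcon s hs hsr]
    have := (Finset.card_le_card hsub).trans Finset.card_le_two
    omega
  by_cases e : q r = q s
  · by_cases e' : q (q r) = q r
    · exact hqne (q r) (hqm r hr) e'.symm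
    · exact hsq (hkey s hs (q r) (hqm r hr) (by rw [← e]; exact Ne.symm e') |>.trans
        (hkey r hr (q r) (hqm r hr) (Ne.symm e')).symm |> fun h => absurd h hsr)
  · exact hsq (hkey s hs r hr (Ne.symm e))

theorem isSolvable_aux : ∀ (n : ℕ) (G : Type u) [Group G] [Finite G], Nat.card G ≤ n →
    (∀ (r : ℕ) [Fact r.Prime], Nat.card (Sylow r G) = 1 ∨ IsPrimePow (Nat.card (Sylow r G))) →
    Group.IsSolvable G := by
  intro n
  induction n with
  | zero => intro G _ _ hc _; exact absurd hc (not_le.2 Nat.card_pos)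
  | succ n ih =>
    intro G _ _ hc h
    rcases subsingleton_or_nontrivial G with hs | hn
    · infer_instance
    by_cases hN : ∃ N : Subgroup G, N.Normal ∧ N ≠ ⊥ ∧ N ≠ ⊤
    · obtain ⟨N, hNn, hNb, hNt⟩ := hN
      have hdvd : ∀ {a c : ℕ}, a ∣ c → (c = 1 ∨ IsPrimePow c) → (a = 1 ∨ IsPrimePow a) := by
        intro a c hac hcc
        rcases hcc with rfl | hcc
        · exact Or.inl (Nat.dvd_one.1 hac)
        · by_cases ha : a = 1
          · exact Or.inl ha
          · exact Or.inr (hcc.dvd hac ha)
      have h1 : 1 < Nat.card N := (one_lt_card_iff_ne_bot _).2 hNb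
      have h2 : 1 < N.index := one_lt_index_of_ne_top hNt
      have h3 := N.card_mul_index
      haveI : Group.IsSolvable N := ih N (by nlinarith) fun r _ =>
        hdvd (card_sylow_normal_dvd r N) (h r)
      haveI : Group.IsSolvable (G ⧸ N) := ih (G ⧸ N)
        (by rw [← index_eq_card]; nlinarith) fun r _ =>
        hdvd (card_sylow_quotient_dvd r N) (h r)
      exact solvable_of_ker_le_range N.subtype (QuotientGroup.mk' N)
        (by rw [QuotientGroup.ker_mk', range_subtype])
    · push Not at hN
      haveI : IsSimpleGroup G := ⟨fun N hNn => by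
        by_cases hb : N = ⊥
        · exact Or.inl hb
        · exact Or.inr (hN N hNn hb)⟩
      exact isSolvable_of_simple h

end CfsgLib.SylowPrimePower
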